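import Cfsg.Agent.H79.SimpleGen
import Cfsg.Agent.ChevalleyStructure.UnipProd

/-!
# Subgroups of Chevalley groups containing root groups: closure under sums of roots (helper977)

`close` : if `x_r(t), x_s(u) ∈ K` for all `t, u` and `x_{r+s}` is the only term of the commutator formula (with an
invertible constant), then `x_{r+s}(t) ∈ K`.  `eq_top_of_chk` : a computable criterion for `K = ⊤` (a list of steps).
-/

set_option autoImplicit false

namespace Cfsg.Agent.H977.Gen

open Cfsg.Lie Cfsg.Agent.ChevalleyStructure Cfsg.Agent.ChevalleyStructure.Elts Cfsg.Agent.H79.SimpleGen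
open Cfsg.Agent.ChevalleyStructure.UnipProd (xG_comm)

universe u

variable {F : Type u} [Field F] {D : ChevalleyDatum}

/-- `[X_r, X_s] = X_k` when `k = r + s` is the only term of the commutator formula -/
theorem close (hD : InList D) {K : Subgroup ↥(D.group F)} {r s k : ℕ} {e : ℤ} (hr : r < D.nroots) (hs : s < D.nroots)
    (hrs : s ≠ r) (hneg : s ≠ D.neg r) (hc : D.commTerms r s = [(k, e, 1, 1)]) (he : (e : F) ≠ 0)
    (h1 : ∀ t : F, xS hD r t ∈ K) (h2 : ∀ t : F, xS hD s t ∈ K) (t : F) : xS hD k t ∈ K := by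
  have h3 := xG_comm (F := F) hD hr hs hrs hneg (-((e : F)⁻¹ * t)) 1
  have h4 : D.commWord F r s (-((e : F)⁻¹ * t)) 1 = [(k, t)] := by
    unfold ChevalleyDatum.commWord
    rw [hc]
    simp only [List.map_cons, List.map_nil, neg_neg, pow_one, mul_one]
    rw [← mul_assoc, mul_inv_cancel₀ he, one_mul]
  rw [h4] at h3
  have h5 : wordG hD [(k, t)] = xG hD k t := by
    unfold wordG
    simp
  rw [h5] at h3
  have h6 : xS hD s (1 : F) * xS hD r (-((e : F)⁻¹ * t)) = xS hD r (-((e : F)⁻¹ * t)) * xS hD s 1 * xS hD k t :=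
    Subtype.ext h3
  have h7 : xS hD k t = (xS hD r (-((e : F)⁻¹ * t)) * xS hD s 1)⁻¹ * (xS hD s 1 * xS hD r (-((e : F)⁻¹ * t))) := by
    rw [h6]
    group
  rw [h7]
  exact K.mul_mem (K.inv_mem (K.mul_mem (h1 _) (h2 _))) (K.mul_mem (h2 _) (h1 _))

/-- one step of the closure: add `r + s` -/
def step (D : ChevalleyDatum) (S : List ℕ) (p : ℕ × ℕ) : List ℕ :=
  match D.commTerms p.1 p.2 with
  | [(k, e, 1, 1)] =>
    if p.1 ∈ S ∧ p.2 ∈ S ∧ p.1 < D.nroots ∧ p.2 < D.nroots ∧ p.2 ≠ p.1 ∧ p.2 ≠ D.neg p.1 ∧ (e = 1 ∨ e = -1) then k :: S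
    else S
  | _ => S

/-- the check: the fundamental roots and their negatives are reached -/
def chk (D : ChevalleyDatum) (S : List ℕ) (steps : List (ℕ × ℕ)) : Bool :=
  (List.range D.rank).all fun i => decide (D.simple i ∈ steps.foldl (step D) S) &&
    decide (D.neg (D.simple i) ∈ steps.foldl (step D) S)

theorem step_mem (hD : InList D) {K : Subgroup ↥(D.group F)} {S : List ℕ} (h : ∀ r ∈ S, ∀ t : F, xS hD r t ∈ K)
    (p : ℕ × ℕ) : ∀ r ∈ step D S p, ∀ t : F, xS hD r t ∈ K := by
  unfold step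
  split
  · rename_i k e hc
    split_ifs with hp
    · intro r hr
      rcases List.mem_cons.1 hr with rfl | hr
      · obtain ⟨p1, p2, p3, p4, p5, p6, p7⟩ := hp
        refine close hD p3 p4 p5 p6 hc ?_ (h _ p1) (h _ p2)
        rcases p7 with rfl | rfl <;> simp
      · exact h r hr
    · exact h
  · exact h

theorem foldl_mem (hD : InList D) {K : Subgroup ↥(D.group F)} (steps : List (ℕ × ℕ)) :
    ∀ S : List ℕ, (∀ r ∈ S, ∀ t : F, xS hD r t ∈ K) → ∀ r ∈ steps.foldl (step D) S, ∀ t : F, xS hD r t ∈ K := by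
  induction steps with
  | nil => exact fun S h => h
  | cons p steps ih => exact fun S h => ih _ (step_mem hD h p)

/-- **The criterion.** -/
theorem eq_top_of_chk (hD : InList D) {S : List ℕ} {steps : List (ℕ × ℕ)} (hchk : chk D S steps = true)
    (K : Subgroup ↥(D.group F)) (h : ∀ r ∈ S, ∀ t : F, xS hD r t ∈ K) : K = ⊤ := by
  have h1 := foldl_mem hD steps S h
  have h2 := fun i (hi : i < D.rank) => List.all_eq_true.1 hchk i (List.mem_range.2 hi)
  refine eq_top_of_simple hD K (fun i hi => h1 _ ?_) (fun i hi => h1 _ ?_)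
  · have := h2 i hi
    simp only [Bool.and_eq_true, decide_eq_true_eq] at this
    exact this.1
  · have := h2 i hi
    simp only [Bool.and_eq_true, decide_eq_true_eq] at this
    exact this.2

end Cfsg.Agent.H977.Gen
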